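import Cfsg.Agent.ODD.PW.TypeC
import Cfsg.Agent.H69.OQ.InMinus
import Cfsg.Agent.ODD.Cov.Basic

/-!
# ODD, odd `q`: the rows of the symplectic (`q ≡ 1 mod 4`) and the orthogonal groups (helper52)

The data `out_psp`, `out_podd`, `out_plus`, `out_minus`; **`oddRat_psp`**, **`rowS_podd`**, **`rowS_plus`**, **`rowS_minus`**.
-/

set_option autoImplicit false
set_option linter.unusedSectionVars false

namespace Cfsg.Agent.ODD.PW

open Cfsg Cfsg.Agent.Nodes Cfsg.Agent.Nodes.BNOf Cfsg.Agent.H684.OQ Cfsg.Agent.H69.OQ Cfsg.Agent.Nodes.WittAll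
open Cfsg.Agent.TitsThree Cfsg.Agent.TitsThree.Siegel Cfsg.Agent.TitsThree.WittFrame Cfsg.Agent.TitsThree.WittWeyl
  Cfsg.Agent.TitsThree.FrameCN
open Cfsg.Agent.Nodes.WittRoot (Amb Mono)
open Cfsg.Agent.Nodes.WittRGD (Tor)

theorem exists_char (F : Type) [Field F] [Fintype F] (hF : Odd (Fintype.card F)) :
    ∃ (p : ℕ) (_ : Fact p.Prime) (_ : CharP F p), p ≠ 2 ∧ (2 : F) ≠ 0 := by
  obtain ⟨p, hp⟩ := CharP.exists F
  refine ⟨p, ⟨CharP.char_is_prime F p⟩, hp, ?_, two_ne_of_odd hF⟩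
  rintro rfl
  exact two_ne_of_odd hF (by exact_mod_cast CharP.cast_eq_zero F 2)

theorem finB (n : ℕ) : Finite (CoxeterMatrix.B n).Group := TypeC.finite_W (CoxeterMatrix.B n).toCoxeterSystem

theorem finD (n : ℕ) : Finite (TypeD.M n).Group := TypeD.finite_W (TypeD.M n).toCoxeterSystem

attribute [local instance] finB finD

section Gen

variable {F : Type} [Field F] {V : Type} [AddCommGroup V] [Module F V] {H : HForm F V} {n : ℕ}
  {Fr : Frame H (Fin (n + 2))} {K0 : Type} [Group K0] [Finite K0] (M : Model Fr K0)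

/-- the reflections of the last node act on `V0` as `-1` -/
theorem out_neg {p : ℕ} (hA : Amb Fr M.I) [Finite V] [Fact p.Prime] [CharP F p] (hσ : ∀ x, H.σ x = x) {p0 : Fr.Adm} (hp0 : p0.c ≠ 0)
    (hT : ∀ s ∈ Tor Fr M.I, ∀ t ∈ Tor Fr M.I, ∀ w ∈ Fr.V0, s (t w) = t (s w))
    {γ : Fˣ} (hγ : ∀ u, u ∈ Subgroup.zpowers γ) {p1 : Fr.Adm} {d c : ℤ} (h1 : p1.c = (γ ^ d : Fˣ) * p0.c)
    (hq : ∀ q : Fr.Adm, q.c ≠ 0 → ∃ k : ℤ, q.c = ((γ ^ d) ^ k : Fˣ) * p0.c) (hc : d * c = 2)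
    (hpar : (Odd d ∧ Even c) ∨ (Even d ∧ Odd c)) (hn : ∀ a (q : Fr.Adm), q.c ≠ 0 → ∀ v ∈ Fr.V0, nZ Fr a q v = -v)
    (hV : ∀ t ∈ Tor Fr M.I, ∀ v ∈ Fr.V0, t (t v) = v) : Out (rgdC M hA p hp0) := by
  have h2 : ∀ a (q : Fr.Adm), q.c ≠ 0 → Tr Fr (dZ Fr a p0 q) := fun a q hq v hv => by
    rw [dZ, mul_apply', inv_apply_eq ((hn a p0 hp0 _ (neg_mem hv)).trans (_root_.neg_neg v)), hn a q hq _ (neg_mem hv),
      _root_.neg_neg]
  have h3 : p1.c ≠ 0 := by rw [h1]; exact mul_ne_zero (Units.ne_zero _) hp0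
  refine out_C M hA hσ hp0 hT hγ h1 (fun a q h4 => ?_) (by rw [hc]) (fun a => (h2 a p1 h3).zpow c) hpar
    fun a t ht v hv => ?_
  · obtain ⟨k, hk⟩ := hq q h4
    exact ⟨k, (ev_dZ hσ a hp0 hk).ext hA ((ev_dZ hσ a hp0 h1).zpow k) (fun z => zpow_comm _ _ _)
      fun w hw => by rw [h2 a q h4 w hw, (h2 a p1 h3).zpow k w hw]⟩
  · rw [hn a p0 hp0 v hv, hn a p0 hp0 _ (hA.map_V0 ht.1 ht.2 (ρ := id) (fun _ => rfl) hv), map_neg, hV t ht v hv]

/-- orthogonal, the anisotropic part is a line -/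
theorem out_line {p : ℕ} (hA : Amb Fr M.I) [Finite V] [Finite F] [Fact p.Prime] [CharP F p] (h2 : (2 : F) ≠ 0)
    (hσ : ∀ x, H.σ x = x) (hε : H.ε = 1) {p0 : Fr.Adm} (hp0 : p0.c ≠ 0) (hd : Module.finrank F Fr.V0 ≤ 1) :
    Out (rgdC M hA p hp0) := by
  have hh : ∀ q : Fr.Adm, H.h q.w q.w = -(2 * q.c) := fun q => by
    have h1 := q.herm
    rw [hε, hσ, one_mul] at h1
    linear_combination h1
  have hl : ∀ q : Fr.Adm, q.c ≠ 0 → ∀ w ∈ Fr.V0, ∃ x : F, w = x • q.w := fun q hq w hw => by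
    have h0 : (⟨q.w, Fr.ok_mem q.ok⟩ : Fr.V0) ≠ 0 := fun h => by
      have h1 := hh q
      rw [show q.w = 0 from congrArg Subtype.val h, H.zero_left, zero_eq_neg] at h1
      exact mul_ne_zero h2 hq h1
    obtain ⟨x, hx⟩ := (finrank_eq_one_iff_of_nonzero' _ h0).1
      (le_antisymm hd (Module.finrank_pos_iff_exists_ne_zero.2 ⟨_, h0⟩)) ⟨w, hw⟩
    exact ⟨x, (congrArg Subtype.val hx).symm⟩
  obtain ⟨γ, hγ⟩ := IsCyclic.exists_generator (α := Fˣ)
  refine out_neg M hA hσ hp0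
    (fun s hs t ht => H716.RGDAb.comm_V0_of_line (AmbT.of_amb hA p) ⟨p0.w, hl p0 hp0⟩ hs ht) hγ
    (p1 := Frame.Adm.smul γ p0) (d := 2) (c := 1) ?_ (fun q hq => ?_) rfl (Or.inr ⟨even_two, odd_one⟩)
    (fun a q hq v hv => ?_) fun t ht v hv => ?_
  · change (γ : F) * H.σ γ * p0.c = _
    rw [hσ, zpow_two, Units.val_mul]
  · obtain ⟨x, hx⟩ := hl q hq _ (Fr.ok_mem p0.ok)
    have h1 := hh p0
    rw [hx, H.smul_left, H.smul_right, hσ, hh] at h1
    have h3 : p0.c = x * x * q.c := mul_left_cancel₀ h2 (by linear_combination h1)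
    have h4 : x ≠ 0 := fun h => hp0 (by rw [h3, h, zero_mul, zero_mul])
    obtain ⟨k, hk⟩ := hγ (Units.mk0 x h4)⁻¹
    refine ⟨k, ?_⟩
    rw [← zpow_mul, mul_comm 2 k, zpow_mul, show γ ^ k = _ from hk, h3, zpow_two, Units.val_mul,
      Units.val_inv_eq_inv_val, Units.val_mk0]
    field_simp
  · obtain ⟨x, rfl⟩ := hl q hq v hv
    rw [nZ_apply_V0 Fr a q hq hv, hε, H.smul_left, hh, ← add_smul, ← neg_smul]
    congr 1
    field_simp
    ring
  · obtain ⟨x, rfl⟩ := hl p0 hp0 v hv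
    obtain ⟨y, hy⟩ := hl p0 hp0 _ (hA.map_V0 ht.1 ht.2 (ρ := id) (fun _ => rfl) (Fr.ok_mem p0.ok))
    have h1 := hA.iso t ht.1 p0.w p0.w
    rw [hy, H.smul_left, H.smul_right, hσ, hh, ← mul_assoc, mul_eq_right₀ (neg_ne_zero.2 (mul_ne_zero h2 hp0))] at h1
    rw [map_smul, map_smul, hy, map_smul, hy, smul_smul y, h1, one_smul]

end Gen

theorem out_psp (F : Type) [Field F] [Finite F] (n p : ℕ) [Fact p.Prime] [CharP F p] :
    Out (rgdC (KInstSp.model (n + 2) F) WittU.amb_Sp p (p0 := SpIdent.adm 1) one_ne_zero) := by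
  obtain ⟨γ, hγ⟩ := IsCyclic.exists_generator (α := Fˣ)
  have h0 : ∀ w ∈ (SpIdent.frame (n + 2) F).V0, w = 0 := fun w hw => (Submodule.mem_bot F).1 hw
  refine out_neg (KInstSp.model (n + 2) F) WittU.amb_Sp (fun _ => rfl) one_ne_zero
    (fun s _ t _ w hw => by simp only [h0 w hw, map_zero])
    hγ (p1 := SpIdent.adm γ) (d := 1) (c := 2) ?_ (fun q hq => ?_) rfl (Or.inl ⟨odd_one, even_two⟩)
    (fun a q _ v hv => by simp only [h0 v hv, map_zero, neg_zero]) fun t _ v hv => by simp only [h0 v hv, map_zero]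
  · change (γ : F) = _ * 1
    rw [zpow_one, mul_one]
  · obtain ⟨k, hk⟩ := hγ (Units.mk0 q.c hq)
    exact ⟨k, by rw [zpow_one, show γ ^ k = _ from hk]; exact (mul_one _).symm⟩

theorem nofix_psp (F : Type) [Field F] [Fintype F] (n : ℕ) (h4 : Fintype.card F % 4 = 1) :
    NoFix (CoxeterMatrix.B (n + 2)).toCoxeterSystem (TypeC.isCartan (n + 2)) (WittModel.T (KInstSp.model (n + 2) F))
      (WittModel.X (KInstSp.model (n + 2) F)) := by
  obtain ⟨i, hi⟩ := FiniteField.isSquare_neg_one_iff.2 (show Fintype.card F % 4 ≠ 3 by omega)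
  refine nofix_tt _ _ WittU.amb_Sp (by omega) (t := i) (k := 2) (by linear_combination (1 - i * i) * hi) fun h =>
    two_ne_of_odd (F := F) (by rw [Nat.odd_iff]; omega) ?_
  have h : i * i = 1 := h
  linear_combination -hi - h

/-- **`PSp_{2m}(q)`**, `q ≡ 1 mod 4` -/
theorem oddRat_psp (hM : AH.Main) (F : Type) [Field F] [Fintype F] {m : ℕ} (hm : 2 ≤ m) (h4 : Fintype.card F % 4 = 1) :
    OddRat (PSp m F) := by
  obtain ⟨n, rfl⟩ : ∃ n, m = n + 2 := ⟨m - 2, by omega⟩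
  obtain ⟨p, _, _, hp2, -⟩ := exists_char F (by rw [Nat.odd_iff]; omega)
  exact (out_psp F n p).oddRat hM Fact.out hp2 (topC _) (nofix_psp F n h4)

section Orth

open Cfsg.Agent.Nodes.WittU Cfsg.Agent.Nodes.WittInst Cfsg.Agent.TitsThree.SiegelGen Cfsg.Agent.TitsThree.WBridge
open Cfsg.Agent.LieClassical Cfsg.Agent.LieClassical.OrthCore Cfsg.Agent.LieClassical.OrthTrans
open Cfsg.Agent.LieClassical.OrthSimple Cfsg.Agent.LieClassical.OrthFinite Cfsg.Agent.LieClassical.OrthForms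
open Cfsg.Agent.TitsThree.KSideO Cfsg.Agent.TitsThree.StdData

section

variable {F : Type} [Field F] [Finite F] (n p : ℕ) [Fact p.Prime] [CharP F p] (h2 : (2 : F) ≠ 0)

theorem good_odd (h2 : (2 : F) ≠ 0) : Good (oddForm (n + 2) F) := good_of_finite (nondeg_oddForm _ F h2) (by simp; omega)

theorem hp_odd : ((embOdd n F).ngt ⟨1, -1 ^ 2, rfl⟩).c ≠ 0 := by
  change (1 : F)⁻¹ * (-1 ^ 2) ≠ 0
  simp

theorem out_podd [Finite (POmega F (oddForm (n + 2) F))] :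
    Out (rgdC (model (wodd (n + 2) F) (good_odd n h2) ⟨_, hp_odd _⟩) (amb_O_of_two _ h2) p (hp_odd _)) := by
  have hdim := H716.RGDAb.finrank_V0 (Fr := toFrame (wodd (n + 2) F))
  rw [show Module.finrank F (Unit ⊕ Fin (n + 2) ⊕ Fin (n + 2) → F) = 1 + (n + 2 + (n + 2)) by simp] at hdim
  exact out_line _ (amb_O_of_two _ h2) h2 (fun _ => rfl) rfl (hp_odd _) (by omega)

theorem good_plus : Good (plusForm (n + 3) F) := good_of_finite (nondeg_plusForm _ F) (by simp; omega)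

theorem rgd_plus : RGD (TypeD.M (n + 1)).toCoxeterSystem (TypeD.isCartan (n + 1)) p
    (((Tor (toFrame (wplus (n + 3) F)) (E (plusForm (n + 3) F))).subgroupOf _).map (toPOmega (good_plus n)))
    (fun i => toPOmega (good_plus n) ⟨WittRGDD.nn _ i, WittRGDD.nn_mem (amb_plus (n + 3)) i⟩)
    (XQ (toFrame (wplus (n + 3) F)) (toPOmega (good_plus n))) :=
  rgdD_model (wplus (n + 3) F) _ (amb_plus _) (adm_plus _) _

theorem out_plus [Finite (POmega F (plusForm (n + 3) F))] : Out (rgd_plus (F := F) n p) := by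
  obtain ⟨γ, hγ⟩ := IsCyclic.exists_generator (α := Fˣ)
  exact out_D (amb_plus _) _ (fun _ => rfl) (fun w hw => (Submodule.mem_bot F).1 hw) _ hγ

theorem top_plus : Bruhat.GG (TypeD.M (n + 1)).toCoxeterSystem (TypeD.isCartan (n + 1))
    (((Tor (toFrame (wplus (n + 3) F)) (E (plusForm (n + 3) F))).subgroupOf _).map (toPOmega (good_plus n)))
    (XQ (toFrame (wplus (n + 3) F)) (toPOmega (good_plus n))) = ⊤ :=
  H905.Md.gg_top (G1D_eq_top (wplus (n + 3) F) _ (toPOmega_surjective _) (adm_plus _) _)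

include p h2 in
theorem nofix_plus : NoFix (TypeD.M (n + 1)).toCoxeterSystem (TypeD.isCartan (n + 1))
    (((Tor (toFrame (wplus (n + 3) F)) (E (plusForm (n + 3) F))).subgroupOf _).map (toPOmega (good_plus n)))
    (XQ (toFrame (wplus (n + 3) F)) (toPOmega (good_plus n))) :=
  (nofix_D _ (amb_plus _) (by omega) h2).map (fun x hx t ht =>
    (RGDLib.rgd_restrict (rgdD (amb_plus _) (adm_plus _) (p := p) (TypeD.M (n + 1)).toCoxeterSystem) (E (plusForm (n + 3) F))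
      (fun x _ => rgD_le (wplus (n + 3) F) (amb_plus _) x) (fun i => WittRGDD.nn_mem (amb_plus _) i)).tor x hx t ht)
    _ (ker_toPOmega _)

end

/-- **`PΩ_{2m+1}(q)`** -/
theorem rowS_podd (hM : AH.Main) : RowS fun S _ => IsPOmegaOdd S := by
  rintro S _ _ _ ⟨F, _, _, m, hm, hF, he⟩
  obtain ⟨n, rfl⟩ : ∃ n, m = n + 2 := ⟨m - 2, by omega⟩
  obtain ⟨p, _, _, hp2, h2⟩ := exists_char F hF
  replace he : Nonempty (S ≃* POmega F (quadFormOdd (n + 2) F)) := he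
  rw [← coe_oddForm] at he
  obtain ⟨e⟩ := he
  have := Finite.of_equiv _ e.toEquiv
  exact Cv.oddRat_congr e ((out_podd n p h2).oddRat hM Fact.out hp2 (topC _)
    (nofix_orth _ _ (amb_O_of_two _ h2) hm h2 (fun _ => rfl) rfl))

/-- **`PΩ⁺_{2m}(q)`** -/
theorem rowS_plus (hM : AH.Main) : RowS PlusO := by
  rintro S _ _ _ ⟨F, _, _, m, hF, hm, he⟩
  obtain ⟨n, rfl⟩ : ∃ n, m = n + 3 := ⟨m - 3, by omega⟩
  obtain ⟨p, _, _, hp2, h2⟩ := exists_char F hF
  replace he : Nonempty (S ≃* POmega F (quadFormPlus (n + 3) F)) := he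
  rw [← coe_plusForm] at he
  obtain ⟨e⟩ := he
  have := Finite.of_equiv _ e.toEquiv
  exact Cv.oddRat_congr e ((out_plus n p).oddRat hM Fact.out hp2 (top_plus n) (nofix_plus n p h2))

variable {F : Type} [Field F] {a b : F} (hab : ∀ z₁ z₂ : F, z₁ ^ 2 + a * z₁ * z₂ + b * z₂ ^ 2 = 0 → z₁ = 0 ∧ z₂ = 0)
include hab

open Polynomial in
theorem NN_surj [Fintype F] (hF : Odd (Fintype.card F)) (x : F) : ∃ z : LL a b, NN z = x := by
  have h2 := two_ne_of_odd hF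
  have h1 : b - (a / 2) ^ 2 ≠ 0 := fun h => one_ne_zero (hab (-(a / 2)) 1 (by field_simp at h ⊢; linear_combination h)).2
  obtain ⟨s, t, h⟩ := FiniteField.exists_root_sum_quadratic (f := X ^ 2) (g := C (b - (a / 2) ^ 2) * X ^ 2 - C x)
    (degree_X_pow 2) (by rw [degree_sub_C (by rw [degree_C_mul_X_pow 2 h1]; decide), degree_C_mul_X_pow 2 h1]; rfl)
    (Nat.odd_iff.1 hF)
  refine ⟨⟨s - a / 2 * t, t⟩, ?_⟩
  simp only [eval_pow, eval_X, eval_sub, eval_mul, eval_C] at h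
  simp only [NN]
  field_simp at h ⊢
  linear_combination h

theorem cyc_LL [Finite F] : IsCyclic (LL a b)ˣ := by
  have : Finite (LL a b) := Finite.of_equiv _ (QuadraticAlgebra.equivProd (-b) a).symm
  have h0 : ∀ z : LL a b, NN z = 0 → z = 0 := fun z h => QuadraticAlgebra.ext (hab _ _ h).1 (hab _ _ h).2
  have : NoZeroDivisors (LL a b) := ⟨fun {x y} h => by
    have h1 := NN_mul x y
    rw [h, show NN (0 : LL a b) = 0 by simp [NN]] at h1
    exact (mul_eq_zero.1 h1.symm).imp (h0 x) (h0 y)⟩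
  have := NoZeroDivisors.to_isDomain (LL a b)
  infer_instance

theorem vv_eq (m : ℕ) (z : LL a b) : vv hab m z = z.re • H716.RGDAb.e0 m F + z.im • H716.RGDAb.e1 m F := by
  funext j
  rcases j with j | j
  · simp [H716.RGDAb.e0, H716.RGDAb.e1]
    rfl
  · fin_cases j <;> simp [H716.RGDAb.e0, H716.RGDAb.e1] <;> rfl

theorem good_minus [Finite F] (n : ℕ) : Good (minusForm (n + 2) F a b) :=
  good_of_finite (nondeg_minusForm _ F a b hab) (by simp; omega)

theorem hp_minus (m : ℕ) : (PP hab m 1).c ≠ 0 := by rw [PP_c, NN_one]; exact neg_ne_zero.2 one_ne_zero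

theorem out_minus [Fintype F] (hF : Odd (Fintype.card F)) (n p : ℕ) [Fact p.Prime] [CharP F p]
    [Finite (POmega F (minusForm (n + 2) F a b))] :
    Out (rgdC (model (wminus (n + 2) F a b hab) (good_minus hab n) ⟨_, hp_minus hab _⟩)
      (amb_O_of_two _ (two_ne_of_odd hF)) p (hp_minus hab _)) := by
  have h2 := two_ne_of_odd hF
  have hG := good_minus hab n
  have hA := amb_O_of_two (wminus (n + 2) F a b hab) h2
  have hp := hp_minus hab (n + 2)
  have hP0 : ∀ u : (LL a b)ˣ, (PP hab (n + 2) (u : LL a b)).c ≠ 0 := fun u => by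
    rw [PP_c]
    exact neg_ne_zero.2 (NN_unit u)
  obtain ⟨k, hk⟩ := (cyc_LL hab).exists_generator
  let N : (LL a b)ˣ →* Fˣ := MonoidHom.mk' (fun u => Units.mk0 _ (NN_unit u)) fun _ _ => Units.ext (NN_mul _ _)
  have hγ : ∀ u, u ∈ Subgroup.zpowers (N k) := fun u => by
    obtain ⟨z, hz⟩ := NN_surj hab hF (u : F)
    obtain ⟨v, rfl⟩ := exists_unit (z := z) (by rw [hz]; exact u.ne_zero)
    obtain ⟨j, rfl⟩ := hk v
    exact ⟨j, (map_zpow N k j).symm.trans (Units.ext hz)⟩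
  have hf : ∀ x (j : ℤ), dZ (toFrame (wminus (n + 2) F a b hab)) x (PP hab _ 1) (PP hab _ (k ^ j : (LL a b)ˣ)) =
      dZ _ x (PP hab _ 1) (PP hab _ k) ^ j := fun x j =>
    map_zpow (MonoidHom.mk' (fun u : (LL a b)ˣ => dZ _ x (PP hab (n + 2) 1) (PP hab _ u)) fun u u' =>
      dZ_mul_of hA x hp (hP0 u) (hP0 u') (hP0 _) (by simp only [PP_c, NN_one, Units.val_mul, NN_mul]; ring) fun v hv => by
        obtain ⟨ζ, rfl⟩ := exists_vv hab _ hv
        rw [dZ_vv hab _ x (NN_unit _), dZ_vv hab _ x (NN_unit _), dZ_vv hab _ x (NN_unit _), Units.val_mul, NN_mul,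
          mul_smul_comm, smul_smul, mul_inv]
        congr 2
        ring) k j
  have hN : NN ((N k : F) • (1 : LL a b)) = N k * N k := by simp [NN, pow_two, QuadraticAlgebra.re_one, QuadraticAlgebra.im_one]
  obtain ⟨u, hu⟩ := exists_unit (z := (N k : F) • (1 : LL a b)) (by rw [hN]; simp)
  obtain ⟨c, rfl⟩ := hk u
  have hu : ((k ^ c : (LL a b)ˣ) : LL a b) = (N k : F) • (1 : LL a b) := hu
  have hc : N k ^ (1 * c) = N k ^ (2 : ℤ) := by
    rw [one_mul, ← map_zpow, zpow_two]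
    exact Units.ext ((congrArg NN hu).trans hN)
  refine out_C (model (wminus (n + 2) F a b hab) hG ⟨_, hp⟩) hA (fun _ => rfl) hp
    (comm_minus hab _ h2 (by omega) (p := p) hA) hγ
    (p1 := PP hab _ k) (d := 1) (c := c) ?_ (fun x q hq => ?_) hc (fun x v hv => ?_) (Or.inl ⟨odd_one, ?_⟩)
    fun x t ht v hv => ?_
  · rw [PP_c, PP_c, NN_one, zpow_one, mul_neg_one]
    rfl
  · obtain ⟨z, hz⟩ := exists_vv hab _ ((toFrame (wminus (n + 2) F a b hab)).ok_mem q.ok)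
    have hqc : q.c = -NN z := by rw [← PP_c hab _ z, (PP hab _ z).ok.2, q.ok.2, PP_w, hz]
    obtain ⟨u, rfl⟩ := exists_unit (z := z) fun h => hq (by rw [hqc, h, neg_zero])
    obtain ⟨j, rfl⟩ := hk u
    exact ⟨j, by rw [← hf]; congr 1; exact Frame.Adm.ext hz (by rw [PP_c, hqc])⟩
  · obtain ⟨ζ, rfl⟩ := exists_vv hab _ hv
    rw [← hf, dZ_vv hab _ x (NN_unit _), hu, hN, smul_mul_smul_comm, smul_mul_assoc, smul_smul, one_mul, one_mul,
      inv_mul_cancel₀ (by simp), one_smul]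
  · by_contra h
    obtain ⟨j, hj⟩ := hγ (-1)
    have h1 : (-1 : Fˣ) ^ c = (-1) ^ (2 : ℤ) := by
      rw [← hj, ← zpow_mul, ← zpow_mul, mul_comm j, mul_comm j, zpow_mul, zpow_mul, ← hc, one_mul]
    rw [(Int.not_even_iff_odd.1 h).neg_one_zpow, even_two.neg_one_zpow, Units.ext_iff] at h1
    exact h2 (by simp only [Units.val_neg, Units.val_one] at h1; linear_combination -h1)
  · obtain ⟨ζ, rfl⟩ := exists_vv hab _ hv
    obtain ⟨r, s, h0, h1⟩ := H716.RGDAb.exists_rot hab h2 hG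
      (fun g hg w hw => hA.map_V0 hg.1 hg.2 (ρ := id) (fun _ => rfl) hw) ht
    have h3 : ∀ z, t (vv hab (n + 2) z) = vv hab _ (⟨r, s⟩ * z) := fun z => by
      rw [vv_eq, vv_eq, map_add, map_smul, map_smul, h0, h1, QuadraticAlgebra.re_mul, QuadraticAlgebra.im_mul]
      module
    have h4 := hA.iso t ht.1 (vv hab _ 1) (vv hab _ 1)
    rw [h3, mul_one] at h4
    have h5 : BB (⟨r, s⟩ : LL a b) ⟨r, s⟩ = BB 1 1 := (h_vv hab _ _ _).symm.trans (h4.trans (h_vv hab _ _ _))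
    have h6 : r ^ 2 + a * r * s + b * s ^ 2 = 1 := mul_left_cancel₀ h2 (by
      simp only [BB, QuadraticAlgebra.re_one, QuadraticAlgebra.im_one] at h5
      linear_combination h5)
    rw [h3, nZ_vv hab _ x (by simp [NN_one]), nZ_vv hab _ x (by simp [NN_one]), h3]
    congr 1
    ext <;> simp [BB, NN_one, QuadraticAlgebra.re_one, QuadraticAlgebra.im_one]
    · linear_combination (-ζ.re - a * ζ.im) * h6
    · linear_combination ζ.im * h6

omit hab in
/-- **`PΩ⁻_{2m}(q)`** -/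
theorem rowS_minus (hM : AH.Main) : RowS MinusO := by
  rintro S _ _ _ ⟨F, _, _, m, a, b, hF, hm, hab, he⟩
  obtain ⟨n, rfl⟩ : ∃ n, m = n + 2 + 1 := ⟨m - 3, by omega⟩
  obtain ⟨p, _, _, hp2, h2⟩ := exists_char F hF
  replace he : Nonempty (S ≃* POmega F (quadFormMinus (n + 2) F a b)) := he
  rw [← coe_minusForm] at he
  obtain ⟨e⟩ := he
  have := Finite.of_equiv _ e.toEquiv
  exact Cv.oddRat_congr e ((out_minus hab hF n p).oddRat hM Fact.out hp2 (topC _)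
    (nofix_orth _ _ (amb_O_of_two _ h2) (by omega) h2 (fun _ => rfl) rfl))

end Orth

end Cfsg.Agent.ODD.PW
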