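import Cfsg.Agent.ODD.PS.Cor
import Cfsg.Agent.H69.OQ.InPlus

/-!
# ODD, odd `q`, symplectic and orthogonal groups: the torus of a Witt frame (helper52)

* `Ev t l` : eigenvalues on the frame; `e a z` : the pairing of two signed indices;
* `Sg ρ` : sign changes, `EE` : the normal `2`-subgroup of the sign changes in `W`;
* `sq_one` : a character of the torus whose stabiliser has odd index is quadratic;
* `node_X` : the nodes of type `SL₂(q)`.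
-/

set_option autoImplicit false
set_option linter.unusedSectionVars false

namespace Cfsg.Agent.ODD.PW

open CoxeterSystem Cfsg.Agent.ChevalleyStructure.CoxeterGeom Cfsg.Agent.Tits.Roots Cfsg.Agent.Nodes.Reps
  Cfsg.Agent.Nodes.BNOf Cfsg.Agent.H684.OQ Cfsg.Agent.H381.OQ Cfsg.Agent.H69.OQ Cfsg.Agent.ODD.PS
open Cfsg.Agent.TitsThree Cfsg.Agent.TitsThree.Siegel Cfsg.Agent.TitsThree.WittFrame Cfsg.Agent.TitsThree.WittWeyl
open Cfsg.Agent.Nodes.WittRoot (Amb Mono)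
open Cfsg.Agent.Nodes.WittRGD (Tor eq_or_ng)
open Cfsg.Agent.Nodes.TypeC (wt wt_apply ng ng_ng ng_fst ng_snd)

section Idx

variable {n : ℕ}

/-- the pairing of two signed indices -/
def e (a z : Fin n × Bool) : ℤ := (if a.2 then 1 else -1) * wt z a.1

theorem e_self (a : Fin n × Bool) : e a a = 1 := by
  obtain ⟨i, s⟩ := a
  cases s <;> simp [e, wt_apply]

theorem e_ng (a z : Fin n × Bool) : e a (ng z) = -e a z := by
  rw [e, e, Nodes.TypeC.wt_ng, Pi.neg_apply, mul_neg]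

theorem ng_e (a z : Fin n × Bool) : e (ng a) z = -e a z := by
  obtain ⟨i, s⟩ := a
  cases s <;> simp [e, ng]

theorem e_ne {a z : Fin n × Bool} (h : z.1 ≠ a.1) : e a z = 0 := by
  rw [e, wt_apply, if_neg h.symm, mul_zero]

/-- sign changes -/
structure Sg (ρ : Fin n × Bool → Fin n × Bool) : Prop where
  fst : ∀ z, (ρ z).1 = z.1
  ng : ∀ z, ρ (ng z) = ng (ρ z)

theorem Sg.sq {ρ : Fin n × Bool → Fin n × Bool} (h : Sg ρ) (z : Fin n × Bool) : ρ (ρ z) = z := by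
  rcases eq_or_ng (h.fst z) with e | e
  · rw [e, e]
  · rw [e, h.ng, e, ng_ng]

theorem Sg.e_fix {ρ : Fin n × Bool → Fin n × Bool} (h : Sg ρ) {a : Fin n × Bool} (ha : ρ a = a) (z : Fin n × Bool) :
    e a (ρ z) = e a z := by
  by_cases h1 : z.1 = a.1
  · rcases eq_or_ng h1 with rfl | rfl
    · rw [ha]
    · rw [h.ng, ha]
  · rw [e_ne h1, e_ne (by rwa [h.fst])]

theorem Sg.e_neg {ρ : Fin n × Bool → Fin n × Bool} (h : Sg ρ) {a : Fin n × Bool} (ha : ρ a = Nodes.TypeC.ng a)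
    (z : Fin n × Bool) : e a (ρ z) = -e a z := by
  by_cases h1 : z.1 = a.1
  · rcases eq_or_ng h1 with rfl | rfl
    · rw [ha, e_ng]
    · rw [h.ng, ha, ng_ng, e_ng, _root_.neg_neg]
  · rw [e_ne h1, e_ne (by rwa [h.fst]), neg_zero]

end Idx

variable {F : Type} [Field F] {V : Type} [AddCommGroup V] [Module F V] {H : HForm F V} {n : ℕ}
  {Fr : Frame H (Fin n)} {G0 : Subgroup (V ≃ₗ[F] V)}

variable (Fr) in
/-- `t` has the eigenvalues `l` on the frame -/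
def Ev (t : V ≃ₗ[F] V) (l : Fin n × Bool → Fˣ) : Prop := ∀ z, t (Fr.b z) = (l z : F) • Fr.b z

variable (Fr) in
/-- `t` is trivial on the anisotropic part -/
def Tr (t : V ≃ₗ[F] V) : Prop := ∀ w ∈ Fr.V0, t w = w

section Ev

variable {s t g : V ≃ₗ[F] V} {l m : Fin n × Bool → Fˣ} {ρ : Fin n × Bool → Fin n × Bool}

theorem inv_apply_eq {v w : V} (h : g v = w) : g⁻¹ w = v := by
  rw [← h, ← mul_apply', inv_mul_cancel]
  rfl

theorem apply_inv (w : V) : g (g⁻¹ w) = w := by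
  rw [← mul_apply', mul_inv_cancel]
  rfl

theorem Ev.mono (h : Ev Fr t l) : Mono Fr t id := fun z => ⟨_, (l z).ne_zero, h z⟩

theorem exists_ev (h : Mono Fr t id) : ∃ l, Ev Fr t l := by
  choose l h1 h2 using h
  exact ⟨fun z => Units.mk0 (l z) (h1 z), h2⟩

theorem Ev.congr (h : Ev Fr t l) (e : ∀ z, l z = m z) : Ev Fr t m := fun z => by rw [← e, h]

theorem ev_one : Ev Fr 1 fun _ => 1 := fun _ => (one_smul _ _).symm

theorem Ev.mul (hs : Ev Fr s l) (ht : Ev Fr t m) : Ev Fr (s * t) fun z => l z * m z := fun z => by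
  rw [mul_apply', ht, map_smul, hs, smul_smul, Units.val_mul, mul_comm]

theorem Ev.inv (h : Ev Fr t l) : Ev Fr t⁻¹ fun z => (l z)⁻¹ := fun z =>
  inv_apply_eq (by rw [map_smul, h, smul_smul, Units.inv_mul, one_smul])

theorem Ev.zpow (h : Ev Fr t l) (k : ℤ) : Ev Fr (t ^ k) fun z => l z ^ k := by
  induction k using Int.induction_on with
  | zero => simpa only [zpow_zero] using ev_one
  | succ k ih => simpa only [zpow_add_one] using ih.mul h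
  | pred k ih => simpa only [zpow_sub_one] using ih.mul h.inv

theorem Ev.conj' (hg : Mono Fr g ρ) (h : Ev Fr t l) : Ev Fr (g⁻¹ * t * g) fun z => l (ρ z) := fun z => by
  obtain ⟨c, -, hc⟩ := hg z
  rw [mul_apply', mul_apply', hc, map_smul, h, smul_comm, ← hc, map_smul, inv_apply_eq rfl]

theorem Ev.conj (hg : Mono Fr g ρ) (hρ : ∀ z, ρ (ρ z) = z) (h : Ev Fr t l) : Ev Fr (g * t * g⁻¹) fun z => l (ρ z) := by
  have := Ev.conj' (hg.inv hρ) h
  rwa [inv_inv] at this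

theorem Ev.ext (hA : Amb Fr G0) (hs : Ev Fr s l) (ht : Ev Fr t m) (e : ∀ z, l z = m z)
    (h0 : ∀ w ∈ Fr.V0, s w = t w) : s = t := ext_of hA (fun z => by rw [hs, ht, e]) h0

theorem Ev.opp (hσ : ∀ x, H.σ x = x) (ht : H.IsIso t) (h : Ev Fr t l) (z : Fin n × Bool) : l (ng z) = (l z)⁻¹ := by
  have h1 := ht (Fr.b (ng z)) (Fr.b z)
  rw [h, h, H.smul_left, H.smul_right, hσ, ← mul_assoc, show H.h (Fr.b (Nodes.TypeC.ng z)) (Fr.b z) = Fr.η z from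
    Fr.hb_neg_self z, mul_eq_right₀ (Fr.η_ne z), ← Units.val_mul, Units.val_eq_one] at h1
  exact eq_inv_of_mul_eq_one_left h1

theorem tr_one : Tr Fr 1 := fun _ _ => rfl

theorem Tr.mul (hs : Tr Fr s) (ht : Tr Fr t) : Tr Fr (s * t) := fun w hw => by rw [mul_apply', ht w hw, hs w hw]

theorem Tr.inv (h : Tr Fr t) : Tr Fr t⁻¹ := fun w hw => inv_apply_eq (h w hw)

theorem Tr.zpow (h : Tr Fr t) (k : ℤ) : Tr Fr (t ^ k) := by
  induction k using Int.induction_on with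
  | zero => simpa only [zpow_zero] using tr_one
  | succ k ih => simpa only [zpow_add_one] using ih.mul h
  | pred k ih => simpa only [zpow_sub_one] using ih.mul h.inv

theorem Tr.conj' (hA : Amb Fr G0) (hg : g ∈ G0) (hm : Mono Fr g ρ) (hρ : ∀ z, ρ (ρ z) = z) (h : Tr Fr t) :
    Tr Fr (g⁻¹ * t * g) := fun w hw => by
  rw [mul_apply', mul_apply', h _ (hA.map_V0 hg hm hρ hw), inv_apply_eq rfl]

theorem ev_hX (hσ : ∀ x, H.σ x = x) {a b : Fin n × Bool} (hab : a.1 ≠ b.1) (x : Fˣ) :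
    Ev Fr (hX Fr a b x) fun z => x ^ (e a z + e b z) := fun z => by
  beta_reduce
  by_cases h1 : z.1 = a.1
  · rcases eq_or_ng h1 with rfl | rfl
    · rw [hX_a Fr hab x.ne_zero, e_self, e_ne hab, add_zero, zpow_one]
    · rw [e_ng, e_ng, e_self, e_ne hab, neg_zero, add_zero, zpow_neg_one, Units.val_inv_eq_inv_val, ← hσ (x : F)]
      conv_lhs => rw [hσ]
      exact hX_na Fr hab x.ne_zero
  by_cases h2 : z.1 = b.1
  · rcases eq_or_ng h2 with rfl | rfl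
    · rw [hX_b Fr hab x.ne_zero, e_self, e_ne hab.symm, zero_add, zpow_one, hσ]
    · rw [e_ng, e_ng, e_self, e_ne hab.symm, neg_zero, zero_add, zpow_neg_one, Units.val_inv_eq_inv_val]
      exact hX_nb Fr hab x.ne_zero
  · rw [hX_ne Fr hab h1 h2, e_ne h1, e_ne h2, add_zero, zpow_zero, Units.val_one, one_smul]

theorem tr_hX {a b : Fin n × Bool} (hab : a.1 ≠ b.1) (x : F) : Tr Fr (hX Fr a b x) := fun _ hw => hX_V0 Fr hab hw x

theorem hX_tor (hA : Amb Fr G0) {a b : Fin n × Bool} (hab : a.1 ≠ b.1) (x : Fˣ) : hX Fr a b x ∈ Tor Fr G0 :=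
  ⟨mul_mem (Nodes.WittRGD.nX_mem hA _ _ _) (Nodes.WittRGD.nX_mem hA _ _ _), mono_hX Fr hab x.ne_zero⟩

theorem ev_dZ (hσ : ∀ x, H.σ x = x) (a : Fin n × Bool) {p0 p : Fr.Adm} (hp0 : p0.c ≠ 0) {x : Fˣ} (hx : p.c = x * p0.c) :
    Ev Fr (dZ Fr a p0 p) fun z => x ^ e a z := fun z => by
  beta_reduce
  have hp : p.c ≠ 0 := by rw [hx]; exact mul_ne_zero x.ne_zero hp0
  by_cases h1 : z.1 = a.1
  · rcases eq_or_ng h1 with rfl | rfl
    · rw [dZ_a hp0 hp, e_self, zpow_one, hx, mul_inv_cancel_right₀ hp0]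
    · refine (dZ_na hp0 hp).trans ?_
      rw [e_ng, e_self, zpow_neg_one, Units.val_inv_eq_inv_val, hσ, hσ, hx, mul_inv_rev, mul_inv_cancel_left₀ hp0]
      rfl
  · rw [dZ_ne h1, e_ne h1, zpow_zero, Units.val_one, one_smul]

end Ev

variable {I W K0 : Type} [Fintype I] [DecidableEq I] [Group W] [Finite W] [Group K0] [Finite K0]
  {M : CoxeterMatrix I} {cs : CoxeterSystem M W} {A : I → I → ℤ} {h : IsCartan M A} {p : ℕ}
  {φ : G0 →* K0} {nn : I → V ≃ₗ[F] V} {hnn : ∀ i, nn i ∈ G0} {X : (I → ℤ) → Subgroup K0}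
  (R : RGD cs h p (((Tor Fr G0).subgroupOf G0).map φ) (fun i => φ ⟨nn i, hnn i⟩) X)

theorem mem_T {t : V ≃ₗ[F] V} (ht : t ∈ Tor Fr G0) : φ ⟨t, ht.1⟩ ∈ ((Tor Fr G0).subgroupOf G0).map φ :=
  Subgroup.mem_map_of_mem _ ht

variable (Fr nn) in
/-- the action of the `nn i` on the signed indices -/
structure Act (sg : I → Fin n × Bool → Fin n × Bool) : Prop where
  mono : ∀ i, Mono Fr (nn i) (sg i)
  fst : ∀ i {x y}, (sg i x).1 = (sg i y).1 ↔ x.1 = y.1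
  ng : ∀ i x, sg i (ng x) = ng (sg i x)
  sq : ∀ i x, sg i (sg i x) = x

/-- `w` is represented by an element that induces the sign change `ρ` -/
def Rs (w : W) (ρ : Fin n × Bool → Fin n × Bool) : Prop :=
  Sg ρ ∧ ∃ (g : V ≃ₗ[F] V) (hg : g ∈ G0), Rp cs R.nsys w (φ ⟨g, hg⟩) ∧ Mono Fr g ρ

variable {R} {sg : I → Fin n × Bool → Fin n × Bool}

theorem Rs.mul {v w : W} {π ρ : Fin n × Bool → Fin n × Bool} (hv : Rs R v π) (hw : Rs R w ρ) :
    Rs R (v * w) fun z => π (ρ z) := by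
  obtain ⟨h1, g, hg, h2, h3⟩ := hv
  obtain ⟨h4, k, hk, h5, h6⟩ := hw
  refine ⟨⟨fun z => (h1.fst _).trans (h4.fst z), fun z => by rw [h4.ng, h1.ng]⟩, g * k, mul_mem hg hk, ?_, h3.mul h6⟩
  have := h2.mul h5
  rwa [← map_mul] at this

theorem Rs.conj (a : Act Fr nn sg) (i : I) {w : W} {ρ : Fin n × Bool → Fin n × Bool} (hw : Rs R w ρ) :
    Rs R (cs.simple i * w * (cs.simple i)⁻¹) fun z => sg i (ρ (sg i z)) := by
  obtain ⟨h1, g, hg, h2, h3⟩ := hw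
  refine ⟨⟨fun z => ?_, fun z => by rw [a.ng, h1.ng, a.ng]⟩, nn i * g * (nn i)⁻¹,
    mul_mem (mul_mem (hnn i) hg) (inv_mem (hnn i)), ?_, ((a.mono i).mul h3).mul ((a.mono i).inv (a.sq i))⟩
  · conv_rhs => rw [← a.sq i z]
    exact (a.fst i).2 (h1.fst _)
  · have := ((rp_simple cs R.nsys i).mul h2).mul (rp_simple cs R.nsys i).inv
    rwa [← map_inv, ← map_mul, ← map_mul] at this

variable (R) in
/-- the sign changes in `W` -/
def EE : Subgroup W where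
  carrier := {w | ∃ ρ, Rs R w ρ}
  one_mem' := ⟨id, ⟨fun _ => rfl, fun _ => rfl⟩, 1, one_mem _, by
    rw [show (⟨1, one_mem G0⟩ : G0) = 1 from rfl, map_one]; exact rp_one, Mono.one⟩
  mul_mem' := fun ⟨_, h1⟩ ⟨_, h2⟩ => ⟨_, h1.mul h2⟩
  inv_mem' := fun ⟨ρ, h1, g, hg, h2, h3⟩ => ⟨ρ, h1, g⁻¹, inv_mem hg, by
    have := h2.inv
    rwa [← map_inv] at this, h3.inv h1.sq⟩

theorem EE_le (a : Act Fr nn sg) {S : Subgroup W} (hS : Odd S.index) : EE R ≤ S := by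
  have : (EE R).Normal := ⟨fun w hw v => by
    induction v using cs.simple_induction_left with
    | one => rwa [one_mul, inv_one, mul_one]
    | mul_simple_left v i ih =>
      obtain ⟨ρ, h1⟩ := ih
      exact ⟨_, by convert h1.conj a i using 1; group⟩⟩
  refine le_of_odd_index hS ?_
  rintro ⟨w, ρ, h1⟩
  obtain ⟨-, g, hg, h2, h3⟩ := h1.mul h1
  exact ⟨1, Subtype.ext ((pow_two w).trans (rp_unique R h2 (rp_of_mem (mem_T ⟨hg, h3.congr h1.1.sq⟩))))⟩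

open Classical in
/-- a character of the torus as a function on linear maps -/
noncomputable def mu (lam : ↥(((Tor Fr G0).subgroupOf G0).map φ) →* ℂˣ) (t : V ≃ₗ[F] V) : ℂˣ :=
  if ht : t ∈ Tor Fr G0 then lam ⟨φ ⟨t, ht.1⟩, mem_T ht⟩ else 1

variable {lam : ↥(((Tor Fr G0).subgroupOf G0).map φ) →* ℂˣ}

theorem mu_eq {t : V ≃ₗ[F] V} (ht : t ∈ Tor Fr G0) : mu lam t = lam ⟨φ ⟨t, ht.1⟩, mem_T ht⟩ := dif_pos ht

theorem mu_mul {s t : V ≃ₗ[F] V} (hs : s ∈ Tor Fr G0) (ht : t ∈ Tor Fr G0) : mu lam (s * t) = mu lam s * mu lam t := by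
  rw [mu_eq hs, mu_eq ht, mu_eq (mul_mem hs ht), ← map_mul]
  exact congrArg lam (Subtype.ext (φ.map_mul ⟨s, hs.1⟩ ⟨t, ht.1⟩))

theorem mu_one : mu lam (1 : V ≃ₗ[F] V) = 1 := by
  have := mu_mul (lam := lam) (one_mem _) (one_mem _)
  rwa [mul_one, left_eq_mul] at this

theorem conj_tor {g t : V ≃ₗ[F] V} (hg : g ∈ G0) {ρ : Fin n × Bool → Fin n × Bool} (hm : Mono Fr g ρ)
    (ht : t ∈ Tor Fr G0) : g⁻¹ * t * g ∈ Tor Fr G0 := by
  obtain ⟨l, hl⟩ := exists_ev ht.2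
  exact ⟨mul_mem (mul_mem (inv_mem hg) ht.1) hg, (hl.conj' hm).mono⟩

variable (a : Act Fr nn sg) (hc : ∀ a ∈ ((Tor Fr G0).subgroupOf G0).map φ, ∀ b ∈ ((Tor Fr G0).subgroupOf G0).map φ, a * b = b * a)
  (hl : Odd (Wst R lam).index)
include a hc hl

theorem mu_conj {w : W} {g : V ≃ₗ[F] V} (hg : g ∈ G0) (hw : Rp cs R.nsys w (φ ⟨g, hg⟩)) {ρ : Fin n × Bool → Fin n × Bool}
    (hm : Mono Fr g ρ) (hρ : Sg ρ) {t : V ≃ₗ[F] V} (ht : t ∈ Tor Fr G0) : mu lam (g⁻¹ * t * g) = mu lam t := by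
  rw [mu_eq ht, mu_eq (conj_tor hg hm ht),
    cj_of_mem R hc (EE_le (R := R) a hl ⟨ρ, hρ, g, hg, hw, hm⟩) hw _ (mem_T ht) (conj_T' R hw (mem_T ht))]
  refine congrArg lam (Subtype.ext ?_)
  show φ (⟨g, hg⟩⁻¹ * ⟨t, ht.1⟩ * ⟨g, hg⟩) = _
  rw [map_mul, map_mul, map_inv]

omit a hc hl in
variable (R) in
/-- there are enough sign changes at `x` -/
def Pn (x : Fin n × Bool) : Prop := ∃ y, x.1 ≠ y.1 ∧ (∃ w ρ, Rs R w ρ ∧ ρ x = ng x ∧ ρ y = ng y) ∧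
  ∃ w ρ, Rs R w ρ ∧ ρ x = x ∧ ρ y = ng y

omit hc hl in
theorem Pn.step {x : Fin n × Bool} (hx : Pn R x) (i : I) : Pn R (sg i x) := by
  obtain ⟨y, h1, ⟨w, ρ, h2, h3, h4⟩, w', ρ', h5, h6, h7⟩ := hx
  exact ⟨sg i y, fun e => h1 ((a.fst i).1 e), ⟨_, _, h2.conj a i, by simp only [a.sq, h3, a.ng], by
    simp only [a.sq, h4, a.ng]⟩, _, _, h5.conj a i, by simp only [a.sq, h6], by simp only [a.sq, h7, a.ng]⟩

theorem Pn.exists (hA : Amb Fr G0) (hσ : ∀ x, H.σ x = x) {x : Fin n × Bool} (hx : Pn R x) (u : Fˣ) :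
    ∃ d ∈ Tor Fr G0, Ev Fr d (fun z => u ^ (2 * e x z)) ∧ Tr Fr d ∧ mu lam d = 1 := by
  obtain ⟨y, h1, ⟨w, ρ, ⟨s1, g, hg, r1, m1⟩, h3, h4⟩, w', ρ', ⟨s2, k, hk, r2, m2⟩, h6, h7⟩ := hx
  have ht := hX_tor hA h1 u
  have h8 : g⁻¹ * hX Fr x y u * g * hX Fr x y u = 1 :=
    (((ev_hX hσ h1 u).conj' m1).mul (ev_hX hσ h1 u)).ext hA ev_one (fun z => by
      rw [s1.e_neg h3, s1.e_neg h4, ← zpow_add, ← neg_add, neg_add_cancel, zpow_zero])
      (((tr_hX h1 _).conj' hA hg m1 s1.sq).mul (tr_hX h1 _))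
  refine ⟨_, mul_mem (conj_tor hk m2 ht) ht, (((ev_hX hσ h1 u).conj' m2).mul (ev_hX hσ h1 u)).congr fun z => ?_,
    ((tr_hX h1 _).conj' hA hk m2 s2.sq).mul (tr_hX h1 _), ?_⟩
  · rw [s2.e_fix h6, s2.e_neg h7, ← zpow_add]
    congr 1
    ring
  · rw [mu_mul (conj_tor hk m2 ht) ht, mu_conj a hc hl hk r2 m2 s2 ht, ← mu_one (lam := lam), ← h8,
      mu_mul (conj_tor hg m1 ht) ht, mu_conj a hc hl hg r1 m1 s1 ht]

/-- **the characters with a stabiliser of odd index are quadratic** -/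
theorem sq_one (hA : Amb Fr G0) (hσ : ∀ x, H.σ x = x) (hP : ∀ i : Fin n, Pn R (i, true)) {w : W} {g : V ≃ₗ[F] V}
    (hg : g ∈ G0) (hw : Rp cs R.nsys w (φ ⟨g, hg⟩)) {ρ : Fin n × Bool → Fin n × Bool} (hm : Mono Fr g ρ) (hρ : Sg ρ)
    (hV : ∀ t ∈ Tor Fr G0, ∀ v ∈ Fr.V0, t (g (t v)) = g v) : ∀ t, lam t ^ 2 = 1 := by
  rintro ⟨_, ⟨t, ht0⟩, ht, rfl⟩
  have ht : t ∈ Tor Fr G0 := ht
  obtain ⟨l, hl'⟩ := exists_ev ht.2
  let x : Fin n → Fˣ := fun i => if ρ (i, true) = (i, true) then l (i, true) else 1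
  have key : ∀ S : Finset (Fin n), ∃ d ∈ Tor Fr G0, Ev Fr d (fun z => ∏ i ∈ S, x i ^ (2 * e (i, true) z)) ∧ Tr Fr d ∧
      mu lam d = 1 := fun S => by
    induction S using Finset.induction_on with
    | empty => exact ⟨1, one_mem _, ev_one, tr_one, mu_one⟩
    | insert i S hi ih =>
      obtain ⟨d, h1, h2, h3, h4⟩ := ih
      obtain ⟨d', h5, h6, h7, h8⟩ := (hP i).exists a hc hl hA hσ (x i)
      exact ⟨d' * d, mul_mem h5 h1, (h6.mul h2).congr fun z => by rw [Finset.prod_insert hi], h7.mul h3,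
        by rw [mu_mul h5 h1, h4, h8, mul_one]⟩
  obtain ⟨d, -, h2, h3, h4⟩ := key Finset.univ
  have h5 : g⁻¹ * t * g * t = d := ((hl'.conj' hm).mul hl').ext hA h2 (fun z => by
    rw [Finset.prod_eq_single z.1 (fun i _ hi => by rw [e_ne hi.symm, mul_zero, zpow_zero])
      (fun h => absurd (Finset.mem_univ _) h)]
    have h6 := hl'.opp hσ (hA.iso t ht.1)
    simp only [x]
    rcases eq_or_ng (hρ.fst (z.1, true)) with h7 | h7
    · rw [if_pos h7]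
      rcases eq_or_ng (a := z) (b := (z.1, true)) rfl with h8 | h8
      · rw [h8, h7, e_self, mul_one, zpow_two]
      · rw [h8, hρ.ng, h7, ng_fst, e_ng, e_self, h6, mul_neg, mul_one, zpow_neg, zpow_two, mul_inv]
    · rw [if_neg (fun h8 => ne_neg_self _ (h8.symm.trans h7)), one_zpow]
      rcases eq_or_ng (a := z) (b := (z.1, true)) rfl with h8 | h8
      · rw [h8, h7, h6, inv_mul_cancel]
      · rw [h8, hρ.ng, h7, ng_ng, h6, mul_inv_cancel]) fun v hv => by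
    rw [h3 v hv, mul_apply', mul_apply', mul_apply', hV t ht v hv, inv_apply_eq rfl]
  rw [← h5, mu_mul (conj_tor hg hm ht) ht, mu_conj a hc hl hg hw hm hρ ht, mu_eq ht] at h4
  rw [pow_two]
  exact h4

omit a hc hl in
/-- the nodes of type `SL₂(q)` -/
theorem node_X (hA : Amb Fr G0) {i : I} {x y : Fin n × Bool} (hxy : x.1 ≠ y.1) (hn : nn i = nX Fr x y 1)
    (hX1 : ∀ k, k ∈ X (sr i) ↔ ∃ s, k = φ ⟨Fr.X x y s, hA.X_mem _ _ _⟩) {γ : Fˣ} (hγ : ∀ u, u ∈ Subgroup.zpowers γ)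
    (k : K0) (hk : k ∈ X (sr i)) (hk1 : k ≠ 1) :
    tx R i k ∈ Subgroup.zpowers (φ ⟨hX Fr x y γ, (hX_tor hA hxy γ).1⟩) := by
  obtain ⟨s, rfl⟩ := (hX1 k).1 hk
  have hs : s ≠ 0 := by
    rintro rfl
    exact hk1 (by rw [show (⟨Fr.X x y 0, hA.X_mem _ _ _⟩ : G0) = 1 from Subtype.ext (Fr.X_zero _ _), map_one])
  obtain ⟨j, hj⟩ := hγ (Units.mk0 s hs)⁻¹
  have h1 := nX_conj_eq hA hxy (γ ^ j).ne_zero
  rw [(tx_unique R hk hk1 (mem_T (hX_tor hA hxy (γ ^ j))) ((hX1 _).2 ⟨-(γ ^ j : Fˣ), rfl⟩)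
    ((hX1 _).2 ⟨-(γ ^ j : Fˣ), rfl⟩) (by
      rw [← map_inv, ← map_mul, ← map_mul, ← map_mul, ← map_mul, ← map_mul]
      refine congrArg φ (Subtype.ext ?_)
      show nn i * Fr.X x y s * (nn i)⁻¹ = _ * _ * nn i * _
      rw [hn, ← h1, show γ ^ j = _ from hj, Units.val_inv_eq_inv_val, inv_inv, Units.val_mk0])).1]
  exact ⟨j, (map_zpow φ _ j).symm.trans (congrArg φ (Subtype.ext ((hXu hA hxy).map_zpow γ j).symm))⟩

end Cfsg.Agent.ODD.PW
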