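import Cfsg.Agent.ODD.PW.Lin
import Cfsg.Agent.Tits.C3Roots

/-!
# ODD, odd `q`: `OddRat` for the Witt frames of type `C` and `D` (helper52)
-/

set_option autoImplicit false
set_option linter.unusedSectionVars false

namespace Cfsg.Agent.ODD.PW

open CoxeterSystem Cfsg.Agent.ChevalleyStructure.CoxeterGeom Cfsg.Agent.Tits.Roots Cfsg.Agent.Nodes.Reps
  Cfsg.Agent.Nodes.BNOf Cfsg.Agent.H684.OQ Cfsg.Agent.H381.OQ Cfsg.Agent.H69.OQ Cfsg.Agent.ODD.PS Cfsg.Agent.Nodes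
open Cfsg.Agent.TitsThree Cfsg.Agent.TitsThree.Siegel Cfsg.Agent.TitsThree.WittFrame Cfsg.Agent.TitsThree.WittWeyl
  Cfsg.Agent.TitsThree.FrameCN
open Cfsg.Agent.Nodes.WittRoot (Amb Mono)
open Cfsg.Agent.Nodes.WittRGD (Tor eq_or_ng)
open Cfsg.Agent.Nodes.TypeC (wt wt_apply ng ng_ng ng_fst ng_snd)

variable {F : Type} [Field F] {V : Type} [AddCommGroup V] [Module F V] {H : HForm F V}

section Gen

variable {n : ℕ} {Fr : Frame H (Fin (n + 1))} {G0 : Subgroup (V ≃ₗ[F] V)}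
  {I W K0 : Type} [Fintype I] [DecidableEq I] [Group W] [Finite W] [Group K0] [Finite K0]
  {M : CoxeterMatrix I} {cs : CoxeterSystem M W} {A : I → I → ℤ} {h : IsCartan M A} {p : ℕ}
  {φ : G0 →* K0} {nn : I → V ≃ₗ[F] V} {hnn : ∀ i, nn i ∈ G0} {X : (I → ℤ) → Subgroup K0}
  {R : RGD cs h p (((Tor Fr G0).subgroupOf G0).map φ) (fun i => φ ⟨nn i, hnn i⟩) X}
  {sg : I → Fin (n + 1) × Bool → Fin (n + 1) × Bool}

theorem pn_all (a : Act Fr nn sg) (h0 : Pn R (Fin.last n, true))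
    (h1 : ∀ i : Fin n, ∃ j, sg j (i.succ, true) = (i.castSucc, true)) (i : Fin (n + 1)) : Pn R (i, true) := by
  induction i using Fin.reverseInduction with
  | last => exact h0
  | cast i ih =>
    obtain ⟨j, hj⟩ := h1 i
    rw [← hj]
    exact ih.step a j

theorem comm_T (hA : Amb Fr G0) (hT : ∀ s ∈ Tor Fr G0, ∀ t ∈ Tor Fr G0, ∀ w ∈ Fr.V0, s (t w) = t (s w)) :
    ∀ a ∈ ((Tor Fr G0).subgroupOf G0).map φ, ∀ b ∈ ((Tor Fr G0).subgroupOf G0).map φ, a * b = b * a := by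
  rintro _ ⟨s, hs, rfl⟩ _ ⟨t, ht, rfl⟩
  rw [← map_mul, ← map_mul]
  exact congrArg φ (Subtype.ext (H716.RGDAb.tor_comm_of hA.V0 hs ht (hT _ hs _ ht)))

variable (R) in
theorem cor_of {A' : I → I → ℤ} (h' : IsCartan M A')
    (hc : ∀ a ∈ ((Tor Fr G0).subgroupOf G0).map φ, ∀ b ∈ ((Tor Fr G0).subgroupOf G0).map φ, a * b = b * a)
    {G : I → V ≃ₗ[F] V} (hG : ∀ i, G i ∈ Tor Fr G0)
    (h1 : ∀ i j, ∃ c : ℤ, nn i * G j * (nn i)⁻¹ = G j * G i ^ c ∧ Even (c + A' i j))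
    (h2 : ∀ i, ∀ x ∈ X (sr i), x ≠ 1 → tx R i x ∈ Subgroup.zpowers (φ ⟨G i, (hG i).1⟩)) :
    Cor R h' 2 fun i => φ ⟨G i, (hG i).1⟩ where
  comm := hc
  mem i := mem_T (hG i)
  conj i j := by
    obtain ⟨c, h3, h4⟩ := h1 i j
    refine ⟨c, ?_, h4.two_dvd⟩
    rw [← map_inv, ← map_mul, ← map_mul, ← map_zpow, ← map_mul]
    exact congrArg φ (Subtype.ext h3)
  node i _ _ h3 := node_of_zpowers R (mem_T (hG i)) (h2 i) h3

variable (R) in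
/-- the data for the principal series -/
structure Out : Prop where
  cor : ∃ (A' : I → I → ℤ) (h' : IsCartan M A') (g : I → K0), Cor R h' 2 g
  sq : ∀ lam, Odd (Wst R lam).index → ∀ t, lam t ^ 2 = 1
  pn : ∀ i, Pn R (i, true)

theorem Out.oddRat (o : Out R) (hM : AH.Main) (hp : p.Prime) (hp2 : p ≠ 2)
    (htop : Bruhat.GG cs h (((Tor Fr G0).subgroupOf G0).map φ) X = ⊤)
    (hN : NoFix cs h (((Tor Fr G0).subgroupOf G0).map φ) X) : OddRat K0 := by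
  obtain ⟨_, _, _, C⟩ := o.cor
  exact oddRat_of_cor R hM hp hp2 htop hN C o.sq

end Gen

section C

open Cfsg.Agent.Nodes.TypeC Cfsg.Agent.Nodes.WittRGD Cfsg.Agent.Nodes.WittAll

theorem Cf_sgC {n : ℕ} (i j : Fin n) (z : Fin n × Bool) :
    Cf j (wt (sg i z)) = Cf j (wt z) - Cf i (wt z) * A n j i := by
  rw [wt_sg, sub_eq_add_neg, ← neg_smul, Cf_add, Cf_smul, A]
  ring

theorem Cf_eC {n : ℕ} {i : Fin n} (hi : (i : ℕ) + 1 < n) (z : Fin n × Bool) :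
    Cf i (wt z) = e (i, true) z + e (nx i) z := by
  simp [Cf, nx, e, hi, sub_eq_add_neg]

theorem Cf_eC' {n : ℕ} {i : Fin n} (hi : ¬ (i : ℕ) + 1 < n) (z : Fin n × Bool) : Cf i (wt z) = e (i, true) z := by
  simp [Cf, e, hi]

variable {n : ℕ} {Fr : Frame H (Fin (n + 2))} {K0 : Type} [Group K0] [Finite K0] (M : Model Fr K0)

/-- the last node -/
theorem node_Z {p : ℕ} {W : Type} [Group W] [Finite W] {cs : CoxeterSystem (CoxeterMatrix.B (n + 2)) W}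
    (hA : Amb Fr M.I) {p0 : Fr.Adm} (hp0 : p0.c ≠ 0) {i : Fin (n + 2)} (hi : ¬ (i : ℕ) + 1 < n + 2)
    {hmem : ∀ i, WittRGD.nn Fr p0 i ∈ M.I}
    (R : RGD cs (isCartan (n + 2)) p (((Tor Fr M.I).subgroupOf M.I).map M.φ)
      (fun i => M.φ ⟨WittRGD.nn Fr p0 i, hmem i⟩) (WittModel.X M)) {g : V ≃ₗ[F] V} (hg : g ∈ Tor Fr M.I)
    (hZ : ∀ q : Fr.Adm, q.c ≠ 0 → ∃ k : ℤ, dZ Fr (i, true) p0 q = g ^ k) (x : K0) (hx : x ∈ WittModel.X M (sr i))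
    (hx1 : x ≠ 1) : tx R i x ∈ Subgroup.zpowers (M.φ ⟨g, hg.1⟩) := by
  have hnx : nx i = (i, true) := by unfold nx; rw [dif_neg hi]
  have hnn : WittRGD.nn Fr p0 i = nZ Fr (i, true) p0 := by unfold WittRGD.nn; rw [if_neg hi]
  have hX1 : WittRoot.rg Fr (sr i) = WittRoot.ZG Fr (i, true) := by rw [rg_sr, hnx, WittRoot.PG_self]
  have hmZ : ∀ q, M.φ ⟨Fr.Z (i, true) q, M.hZ _ _⟩ ∈ WittModel.X M (sr i) := fun q =>
    WittModel.mem_X_of M _ (by rw [hX1]; exact ⟨q, rfl⟩)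
  obtain ⟨u, hu, hux, rfl⟩ := (WittModel.mem_X M).1 hx
  rw [hX1] at hux
  obtain ⟨q, rfl⟩ := hux
  have hq : q.c ≠ 0 := fun h0 => by
    have h1 := q.ok
    rw [h0] at h1
    obtain rfl : q = 1 := Frame.Adm.ext (hA.ok_aniso _ h1) h0
    exact hx1 (by rw [show (⟨Fr.Z (i, true) 1, hu⟩ : M.I) = 1 from Subtype.ext (Fr.Z_one _), map_one])
  have h1 := nZ_conj_Z Fr (i, true) p0 hp0 q
  set r := Frame.Adm.smul (H.ε⁻¹ * Fr.η (i, true) * p0.c⁻¹) (WittWeyl.refl Fr p0 hp0 q)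
  have hs : H.ε⁻¹ * Fr.η (i, true) * p0.c⁻¹ ≠ 0 :=
    mul_ne_zero (mul_ne_zero (inv_ne_zero H.ε_ne) (Fr.η_ne _)) (inv_ne_zero hp0)
  have hr : r.c ≠ 0 := mul_ne_zero (mul_ne_zero hs ((map_ne_zero H.σ).2 hs)) hq
  obtain ⟨k, hk⟩ := hZ (be Fr (i, true) r) (be_c _ hr)
  rw [(tx_unique R hx hx1 (mem_T (zpow_mem hg k)) (inv_mem (hmZ (be Fr (i, true) r)))
    (inv_mem (hmZ (Frame.Adm.smul (H.ε * (be Fr (i, true) r).c * (H.σ (be Fr (i, true) r).c)⁻¹) (be Fr (i, true) r))))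
    (by
      rw [← map_inv, ← map_inv, ← map_inv, ← map_mul, ← map_mul, ← map_mul, ← map_mul, ← map_mul]
      refine congrArg M.φ (Subtype.ext ?_)
      show WittRGD.nn Fr p0 i * Fr.Z (i, true) q * (WittRGD.nn Fr p0 i)⁻¹ =
        (Fr.Z (i, true) _)⁻¹ * g ^ k * WittRGD.nn Fr p0 i * (Fr.Z (i, true) _)⁻¹
      have e2 : nZ Fr (i, true) (be Fr (i, true) r) = Fr.Z (i, true) _ *
        Fr.Z (neg (i, true)) (al Fr (i, true) (be Fr (i, true) r)) * Fr.Z (i, true) _ := rfl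
      rw [hnn, h1, ← hk, dZ, e2, al_be _ hr]
      group)).1]
  exact ⟨k, (map_zpow M.φ _ k).symm⟩

theorem rgdC (hA : Amb Fr M.I) [Finite V] (p : ℕ) [Fact p.Prime] [CharP F p] {p0 : Fr.Adm} (hp0 : p0.c ≠ 0) :
    RGD (CoxeterMatrix.B (n + 2)).toCoxeterSystem (isCartan (n + 2)) p (((Tor Fr M.I).subgroupOf M.I).map M.φ)
      (fun i => M.φ ⟨WittRGD.nn Fr p0 i, WittRGD.nn_mem hA p0 i⟩) (WittModel.X M) :=
  rgdC_model M (AmbT.of_amb hA p) hp0 _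

theorem topC : Bruhat.GG (CoxeterMatrix.B (n + 2)).toCoxeterSystem (isCartan (n + 2))
    (((Tor Fr M.I).subgroupOf M.I).map M.φ) (WittModel.X M) = ⊤ :=
  H905.Md.gg_top (WittModel.G1_eq_top M (Nat.succ_pos _) _)

theorem actC {p0 : Fr.Adm} (hp0 : p0.c ≠ 0) : Act Fr (WittRGD.nn Fr p0) sg :=
  ⟨mono_nn hp0, fun i _ _ => sg_fst_eq i, sg_ng, sg_sg⟩

/-- **type `C`** -/
theorem out_C {p : ℕ} (hA : Amb Fr M.I) [Finite V] [Fact p.Prime] [CharP F p] [Finite (CoxeterMatrix.B (n + 2)).Group]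
    (hσ : ∀ x, H.σ x = x) {p0 : Fr.Adm} (hp0 : p0.c ≠ 0)
    (hT : ∀ s ∈ Tor Fr M.I, ∀ t ∈ Tor Fr M.I, ∀ w ∈ Fr.V0, s (t w) = t (s w))
    {γ : Fˣ} (hγ : ∀ u, u ∈ Subgroup.zpowers γ) {p1 : Fr.Adm} {d c : ℤ} (h1 : p1.c = (γ ^ d : Fˣ) * p0.c)
    (hZ : ∀ a (q : Fr.Adm), q.c ≠ 0 → ∃ k : ℤ, dZ Fr a p0 q = dZ Fr a p0 p1 ^ k) (hc : γ ^ (d * c) = γ ^ (2 : ℤ))
    (htr : ∀ a, Tr Fr (dZ Fr a p0 p1 ^ c)) (hpar : (Odd d ∧ Even c) ∨ (Even d ∧ Odd c))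
    (hV : ∀ a, ∀ t ∈ Tor Fr M.I, ∀ v ∈ Fr.V0, t (nZ Fr a p0 (t v)) = nZ Fr a p0 v) : Out (rgdC M hA p hp0) := by
  have R := rgdC M hA p hp0
  show Out R
  have a := actC (Fr := Fr) hp0
  have hcm := comm_T (φ := M.φ) hA hT
  have nX' : ∀ {i : Fin (n + 2)}, (i : ℕ) + 1 < n + 2 → WittRGD.nn Fr p0 i = nX Fr (i, true) (nx i) 1 := fun hi => if_pos hi
  have nZ' : ∀ {i : Fin (n + 2)}, ¬ (i : ℕ) + 1 < n + 2 → WittRGD.nn Fr p0 i = nZ Fr (i, true) p0 := fun hi => if_neg hi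
  obtain ⟨G, GX, GZ⟩ : ∃ G : Fin (n + 2) → V ≃ₗ[F] V,
      (∀ {i : Fin (n + 2)}, (i : ℕ) + 1 < n + 2 → G i = hX Fr (i, true) (nx i) γ) ∧
      ∀ {i : Fin (n + 2)}, ¬ (i : ℕ) + 1 < n + 2 → G i = dZ Fr (i, true) p0 p1 :=
    ⟨fun i => if (i : ℕ) + 1 < n + 2 then hX Fr (i, true) (nx i) γ else dZ Fr (i, true) p0 p1, fun hi => if_pos hi,
      fun hi => if_neg hi⟩
  have eX : ∀ {i : Fin (n + 2)}, (i : ℕ) + 1 < n + 2 → Ev Fr (G i) fun z => γ ^ Cf i (wt z) := fun hi => by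
    rw [GX hi]
    exact (ev_hX hσ (nx_ne hi) γ).congr fun z => by rw [Cf_eC hi]
  have eZ : ∀ {i : Fin (n + 2)}, ¬ (i : ℕ) + 1 < n + 2 → Ev Fr (G i) fun z => γ ^ (d * Cf i (wt z)) := fun hi => by
    rw [GZ hi]
    exact (ev_dZ hσ _ hp0 h1).congr fun z => by rw [Cf_eC' hi, zpow_mul]
  have tX : ∀ {i : Fin (n + 2)}, (i : ℕ) + 1 < n + 2 → Tr Fr (G i) := fun hi => by
    rw [GX hi]
    exact tr_hX (nx_ne hi) _
  have hG : ∀ i, G i ∈ Tor Fr M.I := fun i => by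
    by_cases hi : (i : ℕ) + 1 < n + 2
    · rw [GX hi]
      exact hX_tor hA (nx_ne hi) γ
    · refine ⟨?_, (eZ hi).mono⟩
      rw [GZ hi]
      exact mul_mem (WittRGD.nZ_mem hA _ _) (inv_mem (WittRGD.nZ_mem hA _ _))
  have mV : ∀ i, ∀ w ∈ Fr.V0, (WittRGD.nn Fr p0 i)⁻¹ w ∈ Fr.V0 := fun i w hw =>
    hA.map_V0 (inv_mem (WittRGD.nn_mem hA p0 i)) ((a.mono i).inv (a.sq i)) (a.sq i) hw
  have cX : ∀ {i : Fin (n + 2)}, (i : ℕ) + 1 < n + 2 → ∀ j (d : ℤ), (Ev Fr (G j) fun z => γ ^ (d * Cf j (wt z))) →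
      WittRGD.nn Fr p0 i * G j * (WittRGD.nn Fr p0 i)⁻¹ = G j * G i ^ (-(d * A (n + 2) j i)) := fun {i} hi j d hj => by
    have h2 : Tr Fr (WittRGD.nn Fr p0 i) := fun w hw => by rw [nX' hi, nX_apply_V0 Fr (nx_ne hi) hw]
    refine (hj.conj (a.mono i) (a.sq i)).ext hA (hj.mul ((eX hi).zpow _)) (fun z => ?_) fun w hw => ?_
    · rw [Cf_sgC, ← zpow_mul, ← zpow_add]
      congr 1
      ring
    · rw [mul_apply', mul_apply', mul_apply', h2.inv w hw, (tX hi).zpow _ w hw,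
        h2 _ (hA.map_V0 (hG j).1 (hG j).2 (ρ := id) (fun _ => rfl) hw)]
  have cZ : ∀ {i j : Fin (n + 2)}, ¬ (i : ℕ) + 1 < n + 2 → (j : ℕ) + 1 < n + 2 →
      WittRGD.nn Fr p0 i * G j * (WittRGD.nn Fr p0 i)⁻¹ = G j * G i ^ (c * -A (n + 2) i j) := fun {i j} hi hj => by
    refine ((eX hj).conj (a.mono i) (a.sq i)).ext hA ((eX hj).mul ((eZ hi).zpow _)) (fun z => ?_) fun w hw => ?_
    · have h2 : A (n + 2) j i = 2 * A (n + 2) i j := by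
        simp only [A_apply, Fin.ext_iff]
        split_ifs <;> omega
      rw [Cf_sgC, ← zpow_mul, show d * Cf i (wt z) * (c * -A (n + 2) i j) = d * c * (Cf i (wt z) * -A (n + 2) i j) by ring,
        zpow_mul, hc, ← zpow_mul, ← zpow_add, h2]
      congr 1
      ring
    · rw [mul_apply', mul_apply', mul_apply', tX hj _ (mV i w hw), apply_inv, zpow_mul, GZ hi, (htr _).zpow _ w hw,
        tX hj w hw]
  have cZZ : ∀ {i : Fin (n + 2)}, ¬ (i : ℕ) + 1 < n + 2 →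
      WittRGD.nn Fr p0 i * G i * (WittRGD.nn Fr p0 i)⁻¹ = G i * G i ^ (-2 : ℤ) := fun {i} hi => by
    rw [← zpow_one_add, show (1 : ℤ) + -2 = -1 from rfl, zpow_neg_one]
    refine ((eZ hi).conj (a.mono i) (a.sq i)).ext hA (eZ hi).inv (fun z => ?_) fun w hw => ?_
    · rw [Cf_sgC, (isCartan (n + 2)).diag, ← zpow_neg]
      congr 1
      ring
    · refine (inv_apply_eq ?_).symm
      have h2 := hV (i, true) _ (hG i) _ (mV i w hw)
      rwa [← nZ' hi, apply_inv] at h2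
  have hnode : ∀ i, ∀ x ∈ WittModel.X M (sr i), x ≠ 1 → tx R i x ∈ Subgroup.zpowers (M.φ ⟨G i, (hG i).1⟩) := fun i => by
    by_cases hi : (i : ℕ) + 1 < n + 2
    · simp only [GX hi]
      refine node_X hA (nx_ne hi) (nX' hi) (fun k => ?_) hγ
      rw [WittModel.mem_X, rg_sr, WittRoot.PG_ne Fr (nx_ne hi)]
      exact ⟨fun ⟨_, _, ⟨s, rfl⟩, e⟩ => ⟨s, e⟩, fun ⟨s, e⟩ => ⟨_, _, ⟨s, rfl⟩, e⟩⟩
    · exact node_Z M hA hp0 hi R (hG i) fun q hq => by rw [GZ hi]; exact hZ _ q hq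
  have hl : ¬ ((Fin.last (n + 1) : Fin (n + 2)) : ℕ) + 1 < n + 2 := by simp
  have r0 : Rs R ((CoxeterMatrix.B (n + 2)).toCoxeterSystem.simple (Fin.last (n + 1))) (sg (Fin.last (n + 1))) :=
    ⟨⟨fun z => by unfold sg; rw [dif_neg hl]; split_ifs <;> rfl, sg_ng _⟩, _, WittRGD.nn_mem hA p0 _, rp_simple _ R.nsys _,
      a.mono _⟩
  have hP := pn_all a ⟨(⟨n, by omega⟩, true), by simp [Fin.ext_iff],
    ⟨_, _, r0.mul (r0.conj a ⟨n, by omega⟩), by simp [sg, ng, Fin.ext_iff], by simp [sg, ng, Fin.ext_iff]⟩,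
    _, _, r0.conj a ⟨n, by omega⟩, by simp [sg, Fin.ext_iff], by simp [sg, ng, Fin.ext_iff]⟩
    fun i => ⟨i.castSucc, sg_down (Nat.succ_lt_succ i.2) true⟩
  refine ⟨?_, fun lam h => sq_one a hcm h hA hσ hP (WittRGD.nn_mem hA p0 _) (rp_simple _ R.nsys _) (a.mono _) r0.1
    (by rw [nZ' hl]; exact hV _), hP⟩
  have hlast : ∀ {i j : Fin (n + 2)}, ¬ (i : ℕ) + 1 < n + 2 → ¬ (j : ℕ) + 1 < n + 2 → i = j := fun _ _ => by omega
  rcases hpar with ⟨h2, h3⟩ | ⟨h2, h3⟩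
  · refine ⟨_, _, _, cor_of R (Tits.C3Roots.cartan_transpose (isCartan (n + 2))) hcm hG (fun i j => ?_) hnode⟩
    by_cases hi : (i : ℕ) + 1 < n + 2 <;> by_cases hj : (j : ℕ) + 1 < n + 2
    · exact ⟨_, cX hi j 1 ((eX hj).congr fun _ => by rw [one_mul]), by simp⟩
    · exact ⟨_, cX hi j d (eZ hj), by
        rw [show -(d * A (n + 2) j i) + A (n + 2) j i = (1 - d) * A (n + 2) j i by ring]
        exact (odd_one.sub_odd h2).mul_right _⟩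
    · refine ⟨_, cZ hi hj, (h3.mul_right _).add ?_⟩
      simp only [A_apply, Fin.ext_iff]
      split_ifs <;> first | omega | decide
    · obtain rfl := hlast hi hj
      exact ⟨_, cZZ hi, by rw [(isCartan (n + 2)).diag]; decide⟩
  · refine ⟨_, _, _, cor_of R (isCartan (n + 2)) hcm hG (fun i j => ?_) hnode⟩
    by_cases hi : (i : ℕ) + 1 < n + 2 <;> by_cases hj : (j : ℕ) + 1 < n + 2
    · refine ⟨_, cX hi j 1 ((eX hj).congr fun _ => by rw [one_mul]), ?_⟩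
      simp only [A_apply, Fin.ext_iff]
      split_ifs <;> first | omega | decide
    · refine ⟨_, cX hi j d (eZ hj), (h2.mul_right _).neg.add ?_⟩
      simp only [A_apply, Fin.ext_iff]
      split_ifs <;> first | omega | decide
    · exact ⟨_, cZ hi hj, by
        rw [show c * -A (n + 2) i j + A (n + 2) i j = (1 - c) * A (n + 2) i j by ring]
        exact (odd_one.sub_odd h3).mul_right _⟩
    · obtain rfl := hlast hi hj
      exact ⟨_, cZZ hi, by rw [(isCartan (n + 2)).diag]; decide⟩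

end C

section D

open Cfsg.Agent.Nodes.TypeD

theorem Cf_eD {n : ℕ} (i : Fin (n + 2)) (z : Fin (n + 2) × Bool) : Cf i (wt z) = e (i, true) z + e (nx i) z := by
  by_cases hi : (i : ℕ) + 1 < n + 2 <;> simp only [Cf, nx, e, hi, dif_pos, dif_neg, not_false_eq_true] <;>
    simp [sub_eq_add_neg]

variable {n : ℕ} {Fr : Frame H (Fin (n + 1 + 2))} {G0 : Subgroup (V ≃ₗ[F] V)} {K0 : Type} [Group K0] [Finite K0]

theorem actD : Act Fr (WittRGDD.nn Fr) sg := ⟨WittRGDD.mono_nn, fun i _ _ => sg_fst_eq i, sg_ng, sg_sg⟩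

/-- **type `D`** -/
theorem out_D {p : ℕ} (hA : Amb Fr G0) (φ : G0 →* K0) (hσ : ∀ x, H.σ x = x) (h0 : ∀ w ∈ Fr.V0, w = 0)
    [Finite (M (n + 1)).Group]
    (R : RGD (M (n + 1)).toCoxeterSystem (isCartan (n + 1)) p (((Tor Fr G0).subgroupOf G0).map φ)
      (fun i => φ ⟨WittRGDD.nn Fr i, WittRGDD.nn_mem hA i⟩) (XQ Fr φ))
    {γ : Fˣ} (hγ : ∀ u, u ∈ Subgroup.zpowers γ) : Out R := by
  have a := actD (Fr := Fr)
  have hcm := comm_T (φ := φ) hA fun s _ t _ w hw => by simp only [h0 w hw, map_zero]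
  have n1 : n + 1 + 1 ≠ n := by omega
  have n2 : n ≠ n + 1 + 1 := by omega
  have eX : ∀ i, Ev Fr (hX Fr (i, true) (nx i) γ) fun z => γ ^ Cf i (wt z) := fun i =>
    (ev_hX hσ (ok_nx i) γ).congr fun z => by rw [Cf_eD]
  have r0 : Rs R ((M (n + 1)).toCoxeterSystem.simple (pd (n + 1)) * (M (n + 1)).toCoxeterSystem.simple (Fin.last _))
      fun z => sg (pd (n + 1)) (sg (Fin.last _) z) := by
    refine ⟨⟨fun z => ?_, fun z => by rw [sg_ng, sg_ng]⟩, _,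
      mul_mem (WittRGDD.nn_mem hA (pd (n + 1))) (WittRGDD.nn_mem hA (Fin.last _)), ?_, (a.mono _).mul (a.mono _)⟩
    · obtain ⟨i, s⟩ := z
      by_cases h1 : (i : ℕ) = n + 2
      · simp [sg, pd, Fin.ext_iff, h1]
      by_cases h2 : (i : ℕ) = n + 1 <;> simp [sg, pd, Fin.ext_iff, h1, h2]
    · have := (rp_simple _ R.nsys (pd (n + 1))).mul (rp_simple (M (n + 1)).toCoxeterSystem R.nsys (Fin.last _))
      rwa [← map_mul] at this
  have hP := pn_all a ⟨(pd (n + 1), true), by simp [pd, Fin.ext_iff],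
    ⟨_, _, r0, by simp [sg, ng, pd, Fin.ext_iff], by simp [sg, ng, pd, Fin.ext_iff]⟩,
    _, _, r0.mul (r0.conj a ⟨n, by omega⟩), by simp [sg, pd, Fin.ext_iff, n1], by simp [sg, ng, pd, Fin.ext_iff, n2]⟩
    fun i => ⟨i.castSucc, sg_down (Nat.succ_lt_succ i.2) true⟩
  refine ⟨⟨_, _, _, cor_of R (Tits.C3Roots.cartan_transpose (isCartan (n + 1))) hcm
    (fun i => hX_tor hA (ok_nx i) γ) (fun i j => ⟨-A (n + 1) j i, ?_, by simp⟩)
    fun i => node_X (R := R) hA (ok_nx i) rfl (fun _ => mem_XQ hA φ (ok_nx i) (ee_sr i)) hγ⟩, fun lam h =>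
      sq_one a hcm h hA hσ hP (one_mem _) (w := 1)
        (by rw [show (⟨1, one_mem G0⟩ : G0) = 1 from rfl, map_one]; exact rp_one) Mono.one ⟨fun _ => rfl, fun _ => rfl⟩
        fun t _ v hv => by simp only [h0 v hv, map_zero], hP⟩
  refine ((eX j).conj (a.mono i) (a.sq i)).ext hA ((eX j).mul ((eX i).zpow _)) (fun z => ?_) fun w hw => ?_
  · rw [wt_sg, sub_eq_add_neg, ← neg_smul, Cf_add, Cf_smul, ← zpow_mul, ← zpow_add, A]
    congr 1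
    ring
  · simp only [h0 w hw, map_zero]

end D

end Cfsg.Agent.ODD.PW
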